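import Groth.Agent.CMKoszul.Surjective
import Groth.Agent.CohFinite.Ample
import Groth.Agent.Intersect.Push
import Groth.Agent.W7Exist.Induct

/-!
Multiplication of sections by large powers of a globally generated invertible module.
-/

set_option autoImplicit false
set_option backward.isDefEq.respectTransparency false
set_option linter.style.haveILetI false
set_option linter.unusedSectionVars false

universe u

open CategoryTheory CategoryTheory.Limits AlgebraicGeometry TopologicalSpace Opposite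
open Groth.Agent.QC (res res_res res_self app_res)
open TMul (IsGen val homOf)

noncomputable section

namespace Groth.Agent.GGPowMul

attribute [local instance] Nakai.clMonoid

variable {X : Scheme.{u}}

/-- Morphisms carrying products of sections to sums of products. -/
lemma app_mem {A B A' B' : X.Modules} (φ : CohB1.tensorMod A B ⟶ CohB1.tensorMod A' B')
    (h : ∀ (a : Γ(A, ⊤)) (b : Γ(B, ⊤)), φ.app ⊤ (TMul.tm a b) ∈ Mumford.pureSums A' B')
    {z : Γ(CohB1.tensorMod A B, ⊤)} (hz : z ∈ Mumford.pureSums A B) : φ.app ⊤ z ∈ Mumford.pureSums A' B' := by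
  obtain ⟨p, rfl⟩ := hz
  induction p using TensorProduct.induction_on with
  | zero => rw [map_zero, map_zero]; exact zero_mem _
  | tmul a b => rw [TMul.tt_tmul]; exact h a b
  | add p q hp hq => rw [map_add, map_add]; exact add_mem hp hq

lemma top_of_iso {A A' B : X.Modules} (e : A ≅ A') (h : ∀ z, z ∈ Mumford.pureSums A B)
    (z : Γ(CohB1.tensorMod A' B, ⊤)) : z ∈ Mumford.pureSums A' B := by
  have hz : (CohFinite.tmap e.hom B).app ⊤ ((CohFinite.tmap e.inv B).app ⊤ z) = z := by
    change (CohFinite.tmap e.inv B ≫ CohFinite.tmap e.hom B).app ⊤ z = z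
    rw [← CohFinite.tmap_comp, e.inv_hom_id, CohFinite.tmap_id]
    rfl
  rw [← hz]
  exact app_mem _ (fun a b => by rw [CohFinite.tmap_tm]; exact Mumford.tm_mem _ _) (h _)

lemma top_of_iso' {A B B' : X.Modules} (e : B ≅ B') (h : ∀ z, z ∈ Mumford.pureSums A B)
    (z : Γ(CohB1.tensorMod A B', ⊤)) : z ∈ Mumford.pureSums A B' := by
  have he : Mumford.whisk A e.inv ≫ Mumford.whisk A e.hom = 𝟙 _ := TMul.hom_ext fun U a b => by
    change (Mumford.whisk A e.hom).app U ((Mumford.whisk A e.inv).app U (TMul.tm a b)) = TMul.tm a b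
    rw [Mumford.whisk_tm, Mumford.whisk_tm]
    congr 1
    change (e.inv ≫ e.hom).app U b = b
    rw [e.inv_hom_id]
    rfl
  have hz : (Mumford.whisk A e.hom).app ⊤ ((Mumford.whisk A e.inv).app ⊤ z) = z := by
    change (Mumford.whisk A e.inv ≫ Mumford.whisk A e.hom).app ⊤ z = z
    rw [he]
    rfl
  rw [← hz]
  exact app_mem _ (fun a b => by rw [Mumford.whisk_tm]; exact Mumford.tm_mem _ _) (h _)

/-- Multiplication by a module followed by multiplication by another. -/
lemma top_assoc {A B L : X.Modules} (h1 : ∀ z, z ∈ Mumford.pureSums A B)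
    (h2 : ∀ z, z ∈ Mumford.pureSums (CohB1.tensorMod A B) L)
    (z : Γ(CohB1.tensorMod A (CohB1.tensorMod B L), ⊤)) : z ∈ Mumford.pureSums A (CohB1.tensorMod B L) := by
  have hz : (TMul.assocHom A B L).app ⊤ ((TMul.assocIso A B L).inv.app ⊤ z) = z := by
    change ((TMul.assocIso A B L).inv ≫ (TMul.assocIso A B L).hom).app ⊤ z = z
    rw [Iso.inv_hom_id]
    rfl
  rw [← hz]
  refine app_mem _ (fun w l => ?_) (h2 _)
  obtain ⟨p, rfl⟩ := h1 w
  induction p using TensorProduct.induction_on with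
  | zero => rw [map_zero, TMul.zero_tm, map_zero]; exact zero_mem _
  | tmul a b => rw [TMul.tt_tmul, TMul.assocHom_tm]; exact Mumford.tm_mem _ _
  | add p q hp hq => rw [map_add, TMul.tm_add, map_add]; exact add_mem hp hq

variable (k : Type u) [Field k] [X.Over (Spec (CommRingCat.of k))] [IsProper (X ↘ Spec (CommRingCat.of k))]

/-- The sections of a globally generated invertible module define a morphism to projective space. -/
theorem exists_morphism [Nonempty X] {L : X.Modules} (hL : PicF.IsInvertible L)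
    (hg : Curv2.IsGloballyGenerated L) :
    ∃ (n : ℕ) (r : X ⟶ CohB1.ProjSpace n k), IsProper r ∧
      Nonempty ((Scheme.Modules.pullback r).obj (Twist.twistProjSpace n k 1) ≅ L) ∧
      r ≫ CohB1.ProjSpace.toSpec n k = X ↘ Spec (CommRingCat.of k) := by
  obtain ⟨l, -, hl⟩ := CMKoszul.exists_list k hL hg
  obtain ⟨x₀⟩ := ‹Nonempty X›
  obtain ⟨-, -, b₀, hb₀, -⟩ := hl x₀
  obtain ⟨n, hn⟩ : ∃ n, l.length = n + 1 := ⟨l.length - 1, by have := List.length_pos_of_mem hb₀; omega⟩
  let s : Fin (n + 1) → ProjUP.Γm L := fun i => l.get (i.cast hn.symm)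
  have hs : ∀ x : X, ∃ i, x ∈ CohB1.genLocus L (homOf (s i)) := fun x => by
    obtain ⟨U, hxU, b, hb, hgen⟩ := hl x
    obtain ⟨i, rfl⟩ := List.get_of_mem hb
    refine ⟨i.cast hn, TMul.le_genLocus (homOf (s (i.cast hn))) ?_ hxU⟩
    rw [TMul.val_homOf]
    exact hgen
  obtain ⟨r, hr, τ, -⟩ := ProjMor.exists_projSpace (X ↘ Spec (CommRingCat.of k)) hL s
    (ProjMor.generatedBy_of_mem_genLocus s hs)
  refine ⟨n, r, ?_, ⟨τ⟩, hr⟩
  haveI := ProjMor.isProper_toSpec n k
  haveI : IsProper (r ≫ CohB1.ProjSpace.toSpec n k) := by rw [hr]; infer_instance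
  exact IsProper.of_comp r (CohB1.ProjSpace.toSpec n k)

include k in
/-- One step of multiplication, through projective space. -/
theorem exists_step [Nonempty X] {L : X.Modules} (hL : PicF.IsInvertible L) (hg : Curv2.IsGloballyGenerated L)
    {F : X.Modules} (hF : Coh.IsCoh F) :
    ∃ m₀ : ℕ, ∀ a, m₀ ≤ a → ∀ z, z ∈ Mumford.pureSums (CohB1.tensorMod F (CohB1.tensorPow L a)) L := by
  obtain ⟨n, r, _, ⟨τ⟩, -⟩ := exists_morphism k hL hg
  haveI := CohFinite.isNoetherian_projSpace n k
  have hG := W7Exist.isCoh_push_proper r hF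
  obtain ⟨v₀, hv₀⟩ := CohFinite.vanish_projSpace n k _ hG
  refine ⟨v₀ + n + 1, fun a ha z => ?_⟩
  let K := Twist.twistProjSpace n k 1
  have hK : PicF.IsInvertible K := CohFinite.isInvertible_twist n k 1
  let M := CohB1.tensorMod F (CohB1.tensorPow L a)
  let G := (Scheme.Modules.pushforward r).obj M
  have hgen : ∀ y : CohB1.ProjSpace n k, ∃ i : Fin (n + 1), y ∈ CohB1.genLocus K (homOf (Mumford.secX (k := k) i)) :=
    fun y => by
      obtain ⟨i, hi⟩ := Mumford.exists_cover y
      refine ⟨i, TMul.le_genLocus (homOf (Mumford.secX (k := k) i)) ?_ hi⟩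
      rw [TMul.val_homOf]
      exact Mumford.secX_isGen i
  haveI : IsIso (CohFinite.projMap r M K) := CohFinite.isIso_projMap r M K hK Mumford.secX hgen
  obtain ⟨d, rfl⟩ : ∃ d, a = d + 1 := ⟨a - 1, by omega⟩
  obtain ⟨eG⟩ := CohFinite.nonempty_pushTensor r F d
  obtain ⟨a₃⟩ := TMul.nonempty_pullPowIso r K (d + 1)
  obtain ⟨b₁⟩ : Nonempty (CohB1.tensorPow ((Scheme.Modules.pullback r).obj K) (d + 1) ≅
      CohB1.tensorPow L (d + 1)) := TMul.nonempty_powCongr τ (d + 1)
  let eM : CohB1.tensorMod F ((Scheme.Modules.pullback r).obj (CohB1.tensorPow K (d + 1))) ≅ M :=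
    PicGrp.tensorModIso (Iso.refl F) (a₃.symm ≪≫ b₁)
  have hclG : PicF.cl G = PicF.cl ((Scheme.Modules.pushforward r).obj F) * PicF.cl K ^ (d + 1) := by
    rw [← Nakai.cl_pow, ← Nakai.cl_tensor]
    exact (PicGrp.cl_eq_cl_iff _ _).2 ⟨((Scheme.Modules.pushforward r).mapIso eM).symm ≪≫ eG.symm⟩
  have hP : ∀ y, y ∈ Mumford.pureSums G K := fun y => by
    refine CMKoszul.mem_pureSums (Mumford.eta k n) hK (CohFinite.isInvertible_twist n k _) G
      (List.ofFn Mumford.secX) (fun x => ?_) (fun q hq hql => ?_) y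
    · obtain ⟨i, hi⟩ := Mumford.exists_cover x
      exact ⟨_, hi, _, List.mem_ofFn.2 ⟨i, rfl⟩, Mumford.secX_isGen i⟩
    · rw [List.length_ofFn] at hql
      obtain ⟨q', rfl⟩ := Nat.exists_eq_add_of_le' hq
      obtain ⟨t, rfl⟩ : ∃ t, d = t + (q' + 1) := ⟨d - (q' + 1), by omega⟩
      have hη : PicF.cl (Mumford.O' k n (-1)) * PicF.cl K = 1 := Nakai.cl_inv ⟨Mumford.eta k n⟩
      obtain ⟨e⟩ := Nakai.iso_of_cl (show
          PicF.cl (CohB1.tensorMod ((Scheme.Modules.pushforward r).obj F) (CohB1.tensorPow K (t + 1))) =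
          PicF.cl (CohB1.tensorMod (CohB1.tensorMod G (CohB1.tensorPow (Mumford.O' k n (-1)) (q' + 1 + 1))) K) by
        simp only [Nakai.cl_tensor, Nakai.cl_pow, hclG]
        generalize PicF.cl ((Scheme.Modules.pushforward r).obj F) = f
        generalize PicF.cl (Mumford.O' k n (-1)) = i at hη ⊢
        generalize PicF.cl K = c at hη ⊢
        rw [show f * c ^ (t + (q' + 1) + 1) * i ^ (q' + 1 + 1) * c =
            f * c ^ t * ((i ^ (q' + 1 + 1) * c ^ (q' + 1 + 1)) * c) by
          rw [show t + (q' + 1) + 1 = t + (q' + 1 + 1) by omega, pow_add]; ac_rfl,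
          ← mul_pow, hη, one_pow, one_mul, pow_succ, mul_assoc])
      exact CohQC.hh_subsingleton_of_iso e _ (hv₀ (t + 1) (by omega) q')
  refine top_of_iso' τ (fun w => ?_) z
  obtain ⟨y, hy⟩ := (ConcreteCategory.bijective_of_isIso ((CohFinite.projMap r M K).app ⊤)).2 w
  rw [← hy]
  obtain ⟨p, rfl⟩ := hP y
  clear hy
  induction p using TensorProduct.induction_on with
  | zero => rw [map_zero, map_zero]; exact zero_mem _
  | tmul m c =>
    rw [TMul.tt_tmul]
    refine (CohFinite.projMap_tm r M K (U := ⊤) m c).symm ▸ ?_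
    exact Mumford.tm_mem (M := M) (N := (Scheme.Modules.pullback r).obj K) m (ProjMor.eta r K ⊤ c)
  | add p q hp hq => rw [map_add, map_add]; exact add_mem hp hq

include k in
/-- Multiplication of sections by large powers of a globally generated invertible module is surjective. -/
theorem exists_pow [Nonempty X] {L : X.Modules} (hL : PicF.IsInvertible L) (hg : Curv2.IsGloballyGenerated L)
    {F : X.Modules} (hF : Coh.IsCoh F) :
    ∃ m₀ : ℕ, ∀ a, m₀ ≤ a → ∀ b z, z ∈ Mumford.pureSums (CohB1.tensorMod F (CohB1.tensorPow L a))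
      (CohB1.tensorPow L (b + 1)) := by
  obtain ⟨m₀, hm₀⟩ := exists_step k hL hg hF
  refine ⟨m₀, fun a ha b => ?_⟩
  induction b with
  | zero => exact fun z => top_of_iso' (TMul.leftUnitIso L).symm (hm₀ a ha) z
  | succ b ih =>
    obtain ⟨e⟩ := Nakai.iso_of_cl (show PicF.cl (CohB1.tensorMod F (CohB1.tensorPow L (a + (b + 1)))) =
        PicF.cl (CohB1.tensorMod (CohB1.tensorMod F (CohB1.tensorPow L a)) (CohB1.tensorPow L (b + 1))) by
      simp only [Nakai.cl_tensor, Nakai.cl_pow, pow_add]; rw [mul_assoc])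
    exact top_assoc ih (top_of_iso e (hm₀ _ (by omega)))

end Groth.Agent.GGPowMul
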