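import Groth.Agent.GGPowMul.Basic
import Groth.Agent.S1297
import Groth.Agent.S0388
import Groth.Agent.PicLocFin.PushUnit
import Groth.Agent.W7See.Main
import Groth.Agent.Intersect.ProjSpace

/-!
The fibre space of a semiample invertible module.
-/

set_option autoImplicit false
set_option backward.isDefEq.respectTransparency false
set_option linter.style.haveILetI false
set_option linter.unusedSectionVars false

universe u

open CategoryTheory CategoryTheory.Limits AlgebraicGeometry TopologicalSpace Opposite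
open Groth.Agent.QC (res)
open TMul (val homOf)

noncomputable section

namespace Groth.Agent.GGPowMul

attribute [local instance] Nakai.clMonoid

variable {X Y : Scheme.{u}}

/-- Powers of a globally generated module that come from the base make the module trivial over the base. -/
theorem exists_gen_over (φ : X ⟶ Y) [QuasiCompact φ] [QuasiSeparated φ] [Surjective φ]
    (hφ : ∀ V : Y.Opens, Function.Bijective (φ.app V)) {L : X.Modules} (hL : PicF.IsInvertible L)
    {m : ℕ} (hm : Curv2.IsGloballyGenerated (CohB1.tensorPow L (m + 1))) {N : ℕ} (hN : m + 1 ∣ N + 1)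
    {B : Y.Modules} (hB : PicF.IsInvertible B)
    (e : (Scheme.Modules.pullback φ).obj B ≅ CohB1.tensorPow L (N + 1)) (y : Y) :
    ∃ (U : Y.Opens) (g : Γ(CohB1.tensorPow L (m + 1), φ ⁻¹ᵁ U)), y ∈ U ∧ TMul.IsGen g := by
  obtain ⟨x, hx⟩ := φ.surjective y
  obtain ⟨t, ht⟩ := Groth.Agent.S1664.gen_of_globallyGenerated (TMul.isInvertible_tensorPow hL _) hm x
  obtain ⟨t₂, ht₂⟩ := TMul.exists_genLocus_pow hL hN t
  haveI := PicLocFin.isIso_unit φ hφ hB
  obtain ⟨a, ha⟩ := (ConcreteCategory.bijective_of_isIso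
    (((Scheme.Modules.pullbackPushforwardAdjunction φ).unit.app B).app ⊤)).2
      (val (t₂ ≫ e.inv) ⊤ : Γ((Scheme.Modules.pullback φ).obj B, ⊤))
  have h1 : CohB1.genLocus _ t = φ ⁻¹ᵁ CohB1.genLocus B (homOf a) := by
    rw [← ht₂, ← TMul.genLocus_comp t₂ e.inv, ← CohFinite.homOf_val (t₂ ≫ e.inv),
      ← ProjMor.genLocus_pullSec φ hB a]
    exact congrArg (fun s => CohB1.genLocus _ (homOf (L := (Scheme.Modules.pullback φ).obj B) s)) ha.symm
  refine ⟨CohB1.genLocus B (homOf a), res _ (le_top : φ ⁻¹ᵁ CohB1.genLocus B (homOf a) ≤ ⊤) (val t ⊤), ?_, ?_⟩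
  · rw [h1] at ht
    exact hx ▸ ht
  · have h2 := (TMul.isGen_genLocus t).res h1.ge
    rw [TMul.res_val] at h2 ⊢
    exact h2

variable (k : Type u) [Field k] [X.Over (Spec (CommRingCat.of k))] [IsProper (X ↘ Spec (CommRingCat.of k))]

include k in
/-- A semiample invertible module comes from a fibre space. -/
theorem exists_fibreSpace [IsIntegral X] {L : X.Modules} (hL : PicF.IsInvertible L)
    (hsa : ∃ m : ℕ, 0 < m ∧ Curv2.IsGloballyGenerated (CohB1.tensorPow L m)) :
    ∃ (Y : Scheme.{u}) (g : Y ⟶ Spec (CommRingCat.of k)) (HY : Y.Modules) (φ : X ⟶ Y),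
      IsIntegral Y ∧ IsProper g ∧ CohB1.IsAmple HY ∧ φ ≫ g = X ↘ Spec (CommRingCat.of k) ∧ Surjective φ ∧
      IsIso (ClSub.unitToPush φ) ∧
      ∀ m : ℕ, 0 < m → Curv2.IsGloballyGenerated (CohB1.tensorPow L m) →
        ∃ A : Y.Modules, CohB1.IsAmple A ∧ Nonempty ((Scheme.Modules.pullback φ).obj A ≅ CohB1.tensorPow L m) := by
  obtain ⟨m₀, hm₀, hgg⟩ := hsa
  obtain ⟨n, r, hr', ⟨τ⟩, hr⟩ : ∃ (n : ℕ) (r : X ⟶ CohB1.ProjSpace n k), IsProper r ∧
      Nonempty ((Scheme.Modules.pullback r).obj (Twist.twistProjSpace n k 1) ≅ CohB1.tensorPow L m₀) ∧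
      r ≫ CohB1.ProjSpace.toSpec n k = X ↘ Spec (CommRingCat.of k) :=
    exists_morphism k (TMul.isInvertible_tensorPow hL m₀) hgg
  haveI := CohFinite.isNoetherian_projSpace n k
  haveI := ProjMor.isProper_toSpec n k
  haveI : IsFinite r.fromNormalization := Groth.Agent.S1297.result r
  let φ := r.toNormalization
  let g : r.normalization ⟶ Spec (CommRingCat.of k) := r.fromNormalization ≫ CohB1.ProjSpace.toSpec n k
  haveI : IsProper g := inferInstance
  have hcomp : φ ≫ g = X ↘ Spec (CommRingCat.of k) := by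
    change r.toNormalization ≫ r.fromNormalization ≫ _ = _
    rw [Scheme.Hom.toNormalization_fromNormalization_assoc, hr]
  haveI : IsProper (φ ≫ g) := by rw [hcomp]; infer_instance
  haveI : IsProper φ := IsProper.of_comp φ g
  have happ := (Groth.Agent.S0388.result r).2
  have hbij : ∀ V : r.normalization.Opens, Function.Bijective (φ.app V) := fun V => by
    haveI := happ V
    exact ConcreteCategory.bijective_of_isIso (φ.app V)
  haveI : Surjective φ := surjective_of_isDominant_of_isClosed_range φ φ.isClosedMap.isClosed_range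
  let HY := (Scheme.Modules.pullback r.fromNormalization).obj (Twist.twistProjSpace n k 1)
  have hHY : CohB1.IsAmple HY :=
    TMul.isAmple_pullback_of_isAffineHom r.fromNormalization (Intersect.isAmple_twistProj_one n k)
  let e₀ : (Scheme.Modules.pullback φ).obj HY ≅ CohB1.tensorPow L m₀ :=
    ((Scheme.Modules.pullbackComp φ r.fromNormalization).app _) ≪≫
      eqToIso (by rw [Scheme.Hom.toNormalization_fromNormalization]) ≪≫ τ
  refine ⟨r.normalization, g, HY, φ, inferInstance, inferInstance, hHY, hcomp, inferInstance,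
    GrT.isIso_of_locally _ (fun W => (hbij W).1) (fun W t y hy => ⟨W, le_rfl, hy, (hbij W).2 _⟩),
    fun m hm hgm => ?_⟩
  obtain ⟨m', rfl⟩ : ∃ m', m = m' + 1 := ⟨m - 1, by omega⟩
  obtain ⟨N, hN⟩ : ∃ N, N + 1 = (m' + 1) * m₀ :=
    ⟨(m' + 1) * m₀ - 1, Nat.sub_add_cancel (Nat.mul_pos hm hm₀)⟩
  obtain ⟨p₁⟩ := TMul.nonempty_pullPowIso φ HY (m' + 1)
  obtain ⟨p₂⟩ : Nonempty (CohB1.tensorPow ((Scheme.Modules.pullback φ).obj HY) (m' + 1) ≅
      CohB1.tensorPow L (N + 1)) := Nakai.iso_of_cl (by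
    rw [Nakai.cl_pow, Nakai.cl_pow, (PicGrp.cl_eq_cl_iff _ _).2 ⟨e₀⟩, Nakai.cl_pow, ← pow_mul, hN, mul_comm])
  have hM := TMul.isInvertible_tensorPow hL (m' + 1)
  have hgen := exists_gen_over φ hbij hL hgm ⟨m₀, hN⟩ (TMul.isInvertible_tensorPow hHY.1 _) (p₁.symm ≪≫ p₂)
  obtain ⟨hA, hc⟩ := W7See.seesaw_formal φ hbij _ hM hgen
  haveI := hc
  let A := (Scheme.Modules.pushforward φ).obj (CohB1.tensorPow L (m' + 1))
  let eA : (Scheme.Modules.pullback φ).obj A ≅ CohB1.tensorPow L (m' + 1) :=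
    asIso ((Scheme.Modules.pullbackPushforwardAdjunction φ).counit.app (CohB1.tensorPow L (m' + 1)))
  obtain ⟨q₁⟩ := TMul.nonempty_pullPowIso φ A m₀
  obtain ⟨q₂⟩ : Nonempty (CohB1.tensorPow ((Scheme.Modules.pullback φ).obj A) m₀ ≅
      CohB1.tensorPow L (N + 1)) := Nakai.iso_of_cl (by
    rw [Nakai.cl_pow, (PicGrp.cl_eq_cl_iff _ _).2 ⟨eA⟩, Nakai.cl_pow, ← pow_mul, Nakai.cl_pow, hN])
  obtain ⟨i⟩ := PicLocFin.nonempty_iso_of_pullback_iso φ hbij (TMul.isInvertible_tensorPow hHY.1 (m' + 1))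
    (TMul.isInvertible_tensorPow hA m₀) ((p₁.symm ≪≫ p₂) ≪≫ (q₁.symm ≪≫ q₂).symm)
  exact ⟨A, TMul.isAmple_of_tensorPow hA hm₀ (TMul.isAmple_congr i (TMul.isAmple_tensorPow hHY (Nat.succ_pos _))), ⟨eA⟩⟩

end Groth.Agent.GGPowMul
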